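import Mathlib
import Groth.Prelude.Def_Hensel
import Groth.Prelude.Def_EssEt
import Groth.Agent.HenselLib.HenselizationExists
import Groth.Agent.HenselLib.LocalCover
import Groth.Agent.S0518
import Groth.Agent.S0505
import Groth.Agent.S0539

/-!
# Finite étale local subalgebras of a strict henselization
-/

set_option autoImplicit false
universe u

open IsLocalRing TensorProduct

namespace SHGalLib

variable {A S : Type u} [CommRing A] [IsLocalRing A] [CommRing S] [IsLocalRing S] [Algebra A S]
  [IsLocalHom (algebraMap A S)]

/-- A finite étale local `A`-subalgebra of `S` with residue field `F`. -/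
structure FEL (A S : Type u) [CommRing A] [IsLocalRing A] [CommRing S] [IsLocalRing S] [Algebra A S]
    [IsLocalHom (algebraMap A S)] (F : IntermediateField (ResidueField A) (ResidueField S)) where
  B : Type u
  [commRing : CommRing B]
  [algebra : Algebra A B]
  [isLocalRing : IsLocalRing B]
  [finite : Module.Finite A B]
  [etale : Algebra.Etale A B]
  j : B →ₐ[A] S
  res : ResidueField B ≃+* F
  hres : ∀ b, (res (residue B b) : ResidueField S) = residue S (j b)
  inj : Function.Injective j
  dvd : ∀ b c : B, j b ∣ j c → b ∣ c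
  loc : IsLocalHom (j : B →+* S)
  rank : Module.finrank A B = Module.finrank (ResidueField A) F

attribute [instance] FEL.commRing FEL.algebra FEL.isLocalRing FEL.finite FEL.etale

/-- Every finite separable residual extension lifts. -/
theorem nonempty_FEL [HenselianLocalRing A] [HenselianLocalRing S] [Module.Flat A S]
    (F : IntermediateField (ResidueField A) (ResidueField S)) [FiniteDimensional (ResidueField A) F]
    [Algebra.IsSeparable (ResidueField A) F] : Nonempty (FEL A S F) := by
  let k := ResidueField A
  haveI : Algebra.FormallyEtale k F := Algebra.FormallyEtale.of_isSeparable k F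
  haveI : Algebra.FinitePresentation k F := Algebra.FinitePresentation.of_finiteType.mp inferInstance
  haveI : Algebra.Etale k F := {}
  obtain ⟨B, _, _, hfin, het, ⟨e⟩⟩ := Groth.Agent.S0518.result A F
  haveI := hfin
  haveI := het
  let θ₀ : B →+* F := (e : TensorProduct A k B ≃+* F).toRingHom.comp
    (Algebra.TensorProduct.includeRight (R := A) (A := k) (B := B)).toRingHom
  have hθA : ∀ a, θ₀ (algebraMap A B a) = algebraMap k F (residue A a) := fun a => by
    show e ((1 : k) ⊗ₜ[A] algebraMap A B a) = _
    rw [Algebra.algebraMap_eq_smul_one, TensorProduct.tmul_smul, TensorProduct.smul_tmul',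
      ← e.commutes (residue A a)]
    refine congrArg e ?_
    rw [Algebra.TensorProduct.algebraMap_apply, Algebra.smul_def, mul_one]
    rfl
  have hker : RingHom.ker θ₀ = (maximalIdeal A).map (algebraMap A B) := by
    have h1 : RingHom.ker (Algebra.TensorProduct.includeRight (R := A) (A := k) (B := B)).toRingHom =
        (maximalIdeal A).map (algebraMap A B) := by
      ext b
      show (1 : k) ⊗ₜ[A] b = 0 ↔ _
      refine ((TensorProduct.quotTensorEquivQuotSMul B (maximalIdeal A)).map_eq_zero_iff (x := (1 : A ⧸ maximalIdeal A) ⊗ₜ[A] b)).symm.trans ?_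
      show TensorProduct.quotTensorEquivQuotSMul B (maximalIdeal A) ((1 : A ⧸ maximalIdeal A) ⊗ₜ[A] b) = 0 ↔ _
      rw [show (1 : A ⧸ maximalIdeal A) = Ideal.Quotient.mk _ 1 from rfl,
        TensorProduct.quotTensorEquivQuotSMul_mk_tmul, one_smul, Submodule.Quotient.mk_eq_zero,
        Ideal.smul_top_eq_map]
      rfl
    rw [← h1]
    ext b
    show e _ = 0 ↔ _
    rw [EmbeddingLike.map_eq_zero_iff]
    rfl
  have hsur : Function.Surjective θ₀ := by
    intro z
    obtain ⟨w, rfl⟩ := e.surjective z
    induction w using TensorProduct.induction_on with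
    | zero => exact ⟨0, by simp⟩
    | tmul c b =>
      obtain ⟨a, rfl⟩ := residue_surjective c
      refine ⟨a • b, ?_⟩
      show e ((1 : k) ⊗ₜ[A] (a • b)) = _
      rw [← TensorProduct.smul_tmul, Algebra.smul_def, mul_one]
      rfl
    | add x y hx hy =>
      obtain ⟨b, hb⟩ := hx
      obtain ⟨c, hc⟩ := hy
      exact ⟨b + c, by rw [map_add, hb, hc, map_add]⟩
  haveI hmax : (RingHom.ker θ₀).IsMaximal := RingHom.ker_isMaximal_of_surjective θ₀ hsur
  haveI : Algebra.IsIntegral A B := inferInstance
  haveI : IsLocalRing B := IsLocalRing.of_unique_max_ideal ⟨_, hmax, fun M hM => by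
    refine (hmax.eq_of_le hM.ne_top ?_).symm
    rw [hker, Ideal.map_le_iff_le_comap]
    haveI := hM
    exact (IsLocalRing.eq_maximalIdeal (Ideal.isMaximal_comap_of_isIntegral_of_isMaximal M)).ge⟩
  have hkm : maximalIdeal B = RingHom.ker θ₀ := (IsLocalRing.eq_maximalIdeal hmax).symm
  let res : ResidueField B ≃+* F :=
    (Ideal.quotEquivOfEq hkm).trans (RingHom.quotientKerEquivOfSurjective hsur)
  have hres0 : ∀ b, res (residue B b) = θ₀ b := fun b => rfl
  let θ : B →+* ResidueField S := (algebraMap F (ResidueField S)).comp θ₀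
  obtain ⟨j, hj, -⟩ := HenselLib.existsUnique_algHom θ (by
    ext a
    show (θ₀ (algebraMap A B a) : ResidueField S) = _
    rw [hθA]
    exact (IsScalarTower.algebraMap_apply k F (ResidueField S) (residue A a)).symm.trans
      (ResidueField.map_residue (algebraMap A S) a))
  have hloc : IsLocalHom (j : B →+* S) := ⟨fun b hb => by
    by_contra hnu
    have hb0 : θ₀ b = 0 := hkm.le ((IsLocalRing.mem_maximalIdeal b).mpr hnu)
    have h2 : residue S (j b) = 0 := by rw [hj]; show (θ₀ b : ResidueField S) = 0; rw [hb0]; rfl
    exact (IsLocalRing.mem_maximalIdeal _).mp (residue_eq_zero_iff _ |>.mp h2) hb⟩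
  letI : Algebra B S := (j : B →+* S).toAlgebra
  haveI : IsScalarTower A B S := IsScalarTower.of_algebraMap_eq fun a => (j.commutes a).symm
  haveI : Module.Flat B S := HenselLib.flat_of_etale (R := A)
  haveI : IsLocalHom (algebraMap B S) := hloc
  haveI : Module.FaithfullyFlat B S := Module.FaithfullyFlat.of_flat_of_isLocalHom
  refine ⟨{ B := B, j := j, res := res, hres := fun b => by rw [hj b, hres0]; rfl, inj := ?_, dvd := ?_,
            loc := hloc, rank := ?_ }⟩
  · exact FaithfulSMul.algebraMap_injective B S
  · rintro b c ⟨s, hs⟩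
    rw [← Ideal.mem_span_singleton, ← Ideal.comap_map_eq_self_of_faithfullyFlat (B := S) (Ideal.span {b})]
    rw [Ideal.mem_comap, Ideal.map_span, Set.image_singleton, Ideal.mem_span_singleton]
    exact ⟨s, hs⟩
  · haveI : Module.Free A B := Module.free_of_flat_of_isLocalRing
    rw [← Module.finrank_baseChange (R := k) (S := A) (M' := B)]
    exact e.toLinearEquiv.finrank_eq

variable {F F' : IntermediateField (ResidueField A) (ResidueField S)} [HenselianLocalRing A] [HenselianLocalRing S]

theorem FEL.henselian (D : FEL A S F) : HenselianLocalRing D.B := Groth.Agent.S0505.result A D.B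

/-- Maps between lifts are unique given their residual effect. -/
theorem FEL.hom_ext (D : FEL A S F) (D' : FEL A S F') (f g : D.B →ₐ[A] D'.B)
    (h : ∀ b, D'.res (residue D'.B (f b)) = D'.res (residue D'.B (g b))) : f = g := by
  haveI := D'.henselian
  refine HenselLib.algHom_ext_of_sub_mem (J := maximalIdeal D'.B) (IsLocalRing.maximalIdeal_le_jacobson _) f g fun x => ?_
  rw [← residue_eq_zero_iff, map_sub, D'.res.injective (h x), sub_self]

/-- Residual maps lift to maps between lifts. -/
theorem FEL.exists_hom (D : FEL A S F) (D' : FEL A S F') (σ : F →ₐ[ResidueField A] F') :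
    ∃ f : D.B →ₐ[A] D'.B, ∀ b, D'.res (residue D'.B (f b)) = σ (D.res (residue D.B b)) := by
  haveI := D'.henselian
  let θ : D.B →+* ResidueField D'.B :=
    (D'.res.symm.toRingHom.comp σ.toRingHom).comp (D.res.toRingHom.comp (residue D.B))
  obtain ⟨f, hf, -⟩ := HenselLib.existsUnique_algHom θ (by
    ext a
    refine D'.res.injective ?_
    show D'.res (D'.res.symm (σ (D.res (residue D.B (algebraMap A D.B a))))) = _
    rw [RingEquiv.apply_symm_apply]
    have h1 : D.res (residue D.B (algebraMap A D.B a)) = algebraMap (ResidueField A) F (residue A a) := by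
      refine Subtype.ext ?_
      rw [D.hres, D.j.commutes]
      exact ((IsScalarTower.algebraMap_apply (ResidueField A) F (ResidueField S) (residue A a)).symm.trans
        (ResidueField.map_residue (algebraMap A S) a)).symm
    rw [h1, AlgHom.commutes]
    refine Subtype.ext ?_
    show _ = (D'.res (residue D'.B (algebraMap A D'.B a)) : ResidueField S)
    rw [D'.hres, D'.j.commutes]
    exact ((IsScalarTower.algebraMap_apply (ResidueField A) F' (ResidueField S) (residue A a)).symm.trans
        (ResidueField.map_residue (algebraMap A S) a)))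
  exact ⟨f, fun b => by rw [hf b]; exact D'.res.apply_symm_apply _⟩

/-- Maps inducing the inclusion on residue fields commute with the maps to `S`. -/
theorem FEL.comp_eq (D : FEL A S F) (D' : FEL A S F') (f : D.B →ₐ[A] D'.B)
    (h : ∀ b, (D'.res (residue D'.B (f b)) : ResidueField S) = D.res (residue D.B b)) (b : D.B) :
    D'.j (f b) = D.j b := by
  have h1 : D'.j.comp f = D.j := by
    refine HenselLib.algHom_ext_of_sub_mem (J := maximalIdeal S) (IsLocalRing.maximalIdeal_le_jacobson _) _ _ fun x => ?_
    rw [← residue_eq_zero_iff, map_sub, AlgHom.comp_apply, ← D'.hres, h, D.hres, sub_self]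
  exact DFunLike.congr_fun h1 b

/-- Finitely many elements lie in the image of a Galois lift. -/
theorem exists_galois_FEL [Hensel.IsStrictHenselization A S] (s : Finset S) :
    ∃ (E : IntermediateField (ResidueField A) (ResidueField S)) (_ : FiniteDimensional (ResidueField A) E)
      (_ : IsGalois (ResidueField A) E) (D : FEL A S E), ∀ x ∈ s, x ∈ D.j.range := by
  classical
  let k := ResidueField A
  haveI : Module.FaithfullyFlat A S := Groth.Agent.S0539.result A S
  haveI : IsSepClosure k (ResidueField S) := Hensel.IsStrictHenselization.isSepClosure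
  obtain ⟨e⟩ := HenselLib.nonempty_algEquiv_SH (R := A) S
  obtain ⟨U, _, _, _, q, _, ψ, hloc, -, hs⟩ :=
    HenselLib.exists_local_cover (HenselLib.etCov_of_algEquiv e (HenselLib.etCov_hens _)) s
  let ξ : U →ₐ[A] S := ψ.comp (IsScalarTower.toAlgHom A U (Localization.AtPrime q))
  let ρ : U →+* ResidueField S := (residue S).comp ξ.toRingHom
  obtain ⟨G, hG⟩ := (inferInstance : Algebra.FiniteType A U).out
  haveI : Finite ↥((ρ '' (G : Set U))) := (G.finite_toSet.image ρ).to_subtype
  let F₀ : IntermediateField k (ResidueField S) := IntermediateField.adjoin k (ρ '' (G : Set U))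
  haveI : FiniteDimensional k F₀ :=
    IntermediateField.finiteDimensional_adjoin fun x _ => (Algebra.IsSeparable.isSeparable k x).isIntegral
  let E : IntermediateField k (ResidueField S) := IntermediateField.normalClosure k F₀ (ResidueField S)
  haveI : FiniteDimensional k E := normalClosure.is_finiteDimensional k F₀ (ResidueField S)
  haveI : Algebra.IsSeparable k E := Algebra.isSeparable_tower_bot_of_isSeparable k E (ResidueField S)
  haveI : Normal k E := normalClosure.normal k F₀ (ResidueField S)
  haveI : IsGalois k E := ⟨⟩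
  obtain ⟨D⟩ := nonempty_FEL (A := A) (S := S) E
  refine ⟨E, inferInstance, inferInstance, D, fun x hx => ?_⟩
  have hρA : ∀ a, ρ (algebraMap A U a) = algebraMap k (ResidueField S) (residue A a) := fun a => by
    show residue S (ξ (algebraMap A U a)) = _
    rw [ξ.commutes]
    exact (ResidueField.map_residue (algebraMap A S) a).symm
  have hρ : ∀ u, ρ u ∈ E := by
    intro u
    have hu : u ∈ Algebra.adjoin A (G : Set U) := hG ▸ trivial
    refine IntermediateField.le_normalClosure F₀ ?_
    induction hu using Algebra.adjoin_induction with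
    | mem y hy => exact IntermediateField.subset_adjoin k _ ⟨y, hy, rfl⟩
    | algebraMap a => rw [hρA]; exact IntermediateField.algebraMap_mem _ _
    | add a b _ _ ha hb => rw [map_add]; exact add_mem ha hb
    | mul a b _ _ ha hb => rw [map_mul]; exact mul_mem ha hb
  haveI := D.henselian
  let ρ' : U →+* E :=
    { toFun := fun u => ⟨ρ u, hρ u⟩
      map_one' := Subtype.ext ρ.map_one
      map_mul' := fun a b => Subtype.ext (ρ.map_mul a b)
      map_zero' := Subtype.ext ρ.map_zero
      map_add' := fun a b => Subtype.ext (ρ.map_add a b) }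
  obtain ⟨φ, hφ, -⟩ := HenselLib.existsUnique_algHom (D.res.symm.toRingHom.comp ρ') (by
    ext a
    refine D.res.injective ?_
    show D.res (D.res.symm (ρ' (algebraMap A U a))) = _
    rw [RingEquiv.apply_symm_apply]
    refine Subtype.ext ?_
    show ρ (algebraMap A U a) = (D.res (residue D.B (algebraMap A D.B a)) : ResidueField S)
    rw [D.hres, D.j.commutes, hρA]
    exact ResidueField.map_residue (algebraMap A S) a)
  have hcomp : D.j.comp φ = ξ := by
    refine HenselLib.algHom_ext_of_sub_mem (J := maximalIdeal S) (IsLocalRing.maximalIdeal_le_jacobson _) _ _ fun u => ?_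
    rw [← residue_eq_zero_iff, map_sub, AlgHom.comp_apply, ← D.hres, hφ]
    show (D.res (D.res.symm (ρ' u)) : ResidueField S) - _ = 0
    rw [RingEquiv.apply_symm_apply]
    exact sub_self _
  obtain ⟨y, rfl⟩ := hs x hx
  obtain ⟨u, w, rfl⟩ := IsLocalization.exists_mk'_eq q.primeCompl y
  have hwu : IsUnit (φ w) := by
    refine D.loc.map_nonunit _ ?_
    show IsUnit (D.j.comp φ w)
    rw [hcomp]
    exact (IsLocalization.map_units (Localization.AtPrime q) w).map ψ
  obtain ⟨z, hz⟩ := hwu.dvd (a := φ u)
  refine ⟨z, (((IsLocalization.map_units (Localization.AtPrime q) w).map ψ).mul_left_cancel ?_)⟩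
  show ψ (algebraMap U _ (w : U)) * D.j z = ψ (algebraMap U _ (w : U)) * ψ _
  rw [← map_mul, IsLocalization.mk'_spec']
  show ξ (w : U) * D.j z = ξ u
  rw [← hcomp, AlgHom.comp_apply, AlgHom.comp_apply, ← map_mul, ← hz]

end SHGalLib
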