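import Mathlib
import Groth.Agent.SHGalLib.Cover

/-!
# Intermediate fields of a strict henselization of a henselian domain
-/

set_option autoImplicit false
universe u

open IsLocalRing
open scoped nonZeroDivisors

namespace SHGalLib

variable {A S : Type u} [CommRing A] [HenselianLocalRing A] [IsDomain A] [CommRing S] [IsLocalRing S] [IsDomain S]
  [Algebra A S] [IsLocalHom (algebraMap A S)] [HenselianLocalRing S] [Module.FaithfullyFlat A S]

/-- The rank of a finite torsion-free domain is the degree of its fraction field. -/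
theorem finrank_fractionRing_eq (B : Type u) [CommRing B] [IsDomain B] [Algebra A B] [Module.Finite A B]
    [Module.Free A B] [FaithfulSMul A B] (K L : Type u) [Field K] [Algebra A K] [IsFractionRing A K] [Field L]
    [Algebra B L] [IsFractionRing B L] [Algebra A L] [IsScalarTower A B L] [Algebra K L] [IsScalarTower A K L] :
    Module.Finite K L ∧ Module.finrank K L = Module.finrank A B := by
  haveI hloc : IsLocalization (Algebra.algebraMapSubmonoid B A⁰) L := by
    refine (IsLocalization.iff_of_le_of_exists_dvd (M := Algebra.algebraMapSubmonoid B A⁰) (S := L) B⁰ ?_ ?_).mpr inferInstance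
    · rintro _ ⟨a, ha, rfl⟩
      exact mem_nonZeroDivisors_of_ne_zero
        (by rw [ne_eq, FaithfulSMul.algebraMap_eq_zero_iff]; exact nonZeroDivisors.ne_zero ha)
    · intro b hb
      obtain ⟨a, ha, hdvd⟩ := IsAlgebraic.exists_nonzero_dvd (R := A) (s := b) (Algebra.IsAlgebraic.isAlgebraic b) hb
      exact ⟨_, ⟨a, mem_nonZeroDivisors_of_ne_zero ha, rfl⟩, hdvd⟩
  refine ⟨Module.Finite.of_isLocalizedModule A⁰ (Rₚ := K) (IsScalarTower.toAlgHom A B L).toLinearMap, ?_⟩
  exact Module.finrank_of_isLocalizedModule_of_free K A⁰ (IsScalarTower.toAlgHom A B L).toLinearMap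

/-- The subfield of `Frac S` generated by `A` and finitely many elements meets `S` in a finite étale local
algebra. -/
theorem exists_fel_of_finset [Hensel.IsStrictHenselization A S] (K FS : Type u) [Field K] [Algebra A K]
    [IsFractionRing A K] [Field FS] [Algebra S FS] [IsFractionRing S FS] [Algebra A FS] [IsScalarTower A S FS]
    [Algebra K FS] [IsScalarTower A K FS] (t : Finset FS) :
    ∃ (F : IntermediateField (ResidueField A) (ResidueField S)) (D : FEL A S F),
      ∀ x : S, algebraMap S FS x ∈ IntermediateField.adjoin K (t : Set FS) ↔ x ∈ D.j.range := by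
  classical
  let k := ResidueField A
  choose num den hden hfrac using fun z : FS => IsFractionRing.div_surjective (A := S) z
  obtain ⟨E, hfd, hgal, DE, hDE⟩ := exists_galois_FEL (A := A) (S := S) (t.image num ∪ t.image den)
  haveI := hfd
  haveI := hgal
  haveI : IsDomain DE.B := DE.inj.isDomain _
  let K' := FractionRing DE.B
  haveI : FaithfulSMul A DE.B := (faithfulSMul_iff_algebraMap_injective A DE.B).mpr fun a b h =>
    FaithfulSMul.algebraMap_injective A S (by rw [← DE.j.commutes, ← DE.j.commutes, h])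
  haveI : Module.Free A DE.B := Module.free_of_flat_of_isLocalRing
  letI : Algebra K K' := (IsFractionRing.lift (K := K) (g := algebraMap A K') (by
    rw [IsScalarTower.algebraMap_eq A DE.B K']
    exact (IsFractionRing.injective DE.B K').comp (FaithfulSMul.algebraMap_injective A DE.B))).toAlgebra
  haveI : IsScalarTower A K K' := IsScalarTower.of_algebraMap_eq fun a => (IsFractionRing.lift_algebraMap _ a).symm
  obtain ⟨hfin, hrank⟩ := finrank_fractionRing_eq (A := A) DE.B K K'
  haveI := hfin
  -- residual automorphisms act on the fraction field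
  choose f hf using fun σ : E →ₐ[k] E => DE.exists_hom DE σ
  have hfmul : ∀ σ τ : E →ₐ[k] E, f (σ.comp τ) = (f σ).comp (f τ) := fun σ τ =>
    DE.hom_ext DE _ _ fun b => by rw [hf, AlgHom.comp_apply, AlgHom.comp_apply, hf, hf]
  have hfone : f (AlgHom.id k E) = AlgHom.id A DE.B := DE.hom_ext DE _ _ fun b => by rw [hf]; rfl
  let gA : (E ≃ₐ[k] E) → (DE.B ≃ₐ[A] DE.B) := fun σ => AlgEquiv.ofAlgHom (f σ) (f σ.symm)
    (by rw [← hfmul, ← hfone]; exact congrArg f (AlgHom.ext fun x => σ.apply_symm_apply x))
    (by rw [← hfmul, ← hfone]; exact congrArg f (AlgHom.ext fun x => σ.symm_apply_apply x))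
  let Ψ : (E ≃ₐ[k] E) →* (K' ≃ₐ[K] K') := (IsFractionRing.fieldEquivOfAlgEquivHom K K').comp
    { toFun := gA
      map_one' := AlgEquiv.ext fun b => DFunLike.congr_fun hfone b
      map_mul' := fun σ τ => AlgEquiv.ext fun b => DFunLike.congr_fun (hfmul (σ : E →ₐ[k] E) τ) b }
  have hΨinj : Function.Injective Ψ := by
    refine (IsFractionRing.fieldEquivOfAlgEquivHom_injective A DE.B K K').comp fun σ τ h => ?_
    refine AlgEquiv.ext fun x => ?_
    obtain ⟨r, rfl⟩ := DE.res.surjective x
    obtain ⟨b, rfl⟩ := residue_surjective r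
    have h1 : DE.res (residue DE.B (f (σ : E →ₐ[k] E) b)) = DE.res (residue DE.B (f (τ : E →ₐ[k] E) b)) :=
      congrArg (fun g : DE.B ≃ₐ[A] DE.B => DE.res (residue DE.B (g b))) h
    rwa [hf, hf] at h1
  have hcard : Nat.card (E ≃ₐ[k] E) = Module.finrank K K' := by
    rw [IsGalois.card_aut_eq_finrank, hrank, DE.rank]
  haveI : Finite (K' ≃ₐ[K] K') := inferInstance
  have hcard' : Nat.card (K' ≃ₐ[K] K') ≤ Module.finrank K K' := by
    rw [Nat.card_eq_fintype_card]; exact AlgEquiv.card_le
  have hΨ : Function.Bijective Ψ :=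
    ⟨hΨinj, (hΨinj.bijective_of_nat_card_le (hcard'.trans hcard.ge)).2⟩
  have hcardK : Nat.card (K' ≃ₐ[K] K') = Module.finrank K K' := by
    rw [← hcard]; exact (Nat.card_congr (Equiv.ofBijective Ψ hΨ)).symm
  haveI : IsGalois K K' := IsGalois.of_card_aut_eq_finrank K K' hcardK
  -- the fraction field embeds into `FS`
  have hjinj : Function.Injective ((algebraMap S FS).comp (DE.j : DE.B →+* S)) :=
    (IsFractionRing.injective S FS).comp DE.inj
  let ι₀ : K' →+* FS := IsFractionRing.lift (K := K') hjinj
  have hι₀ : ∀ b, ι₀ (algebraMap DE.B K' b) = algebraMap S FS (DE.j b) := fun b => IsFractionRing.lift_algebraMap hjinj b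
  have hιK : ι₀.comp (algebraMap K K') = algebraMap K FS := IsFractionRing.ringHom_ext fun a => by
    rw [RingHom.comp_apply, ← IsScalarTower.algebraMap_apply A K K', IsScalarTower.algebraMap_apply A DE.B K',
      hι₀, DE.j.commutes, ← IsScalarTower.algebraMap_apply A S FS, ← IsScalarTower.algebraMap_apply A K FS]
  let ι : K' →ₐ[K] FS := { ι₀ with commutes' := fun c => RingHom.congr_fun hιK c }
  have ht : ∀ z ∈ t, z ∈ Set.range ι := by
    intro z hz
    obtain ⟨a, ha⟩ := hDE (num z) (Finset.mem_union_left _ (Finset.mem_image_of_mem _ hz))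
    obtain ⟨b, hb⟩ := hDE (den z) (Finset.mem_union_right _ (Finset.mem_image_of_mem _ hz))
    refine ⟨algebraMap DE.B K' a / algebraMap DE.B K' b, ?_⟩
    show ι₀ _ = z
    rw [map_div₀, hι₀, hι₀]
    exact (congrArg₂ (fun p q => algebraMap S FS p / algebraMap S FS q) ha hb).trans (hfrac z)
  choose pre hpre using ht
  let L' : IntermediateField K K' := IntermediateField.adjoin K (Set.range fun z : t => pre z.1 z.2)
  have hL : L'.map ι = IntermediateField.adjoin K (t : Set FS) := by
    rw [IntermediateField.adjoin_map]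
    refine congrArg _ (Set.ext fun z => ?_)
    constructor
    · rintro ⟨_, ⟨w, rfl⟩, rfl⟩; rw [hpre]; exact w.2
    · intro hz; exact ⟨_, ⟨⟨z, hz⟩, rfl⟩, hpre z hz⟩
  -- the corresponding residual field
  let H : Subgroup (E ≃ₐ[k] E) := L'.fixingSubgroup.comap Ψ
  let E₀ : IntermediateField k E := IntermediateField.fixedField H
  let F : IntermediateField k (ResidueField S) := IntermediateField.lift E₀
  haveI : FiniteDimensional k F := (IntermediateField.liftAlgEquiv E₀).toLinearEquiv.finiteDimensional
  haveI : IsSepClosure k (ResidueField S) := Hensel.IsStrictHenselization.isSepClosure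
  haveI : Algebra.IsSeparable k F := Algebra.isSeparable_tower_bot_of_isSeparable k F (ResidueField S)
  obtain ⟨D⟩ := nonempty_FEL (A := A) (S := S) F
  obtain ⟨φ, hφ⟩ := D.exists_hom DE (IntermediateField.inclusion (IntermediateField.lift_le E₀))
  have hφj : ∀ b, DE.j (φ b) = D.j b := fun b => D.comp_eq DE φ (fun b => by rw [hφ]; rfl) b
  haveI : IsDomain D.B := D.inj.isDomain _
  haveI : FaithfulSMul A D.B := (faithfulSMul_iff_algebraMap_injective A D.B).mpr fun a b h =>
    FaithfulSMul.algebraMap_injective A S (by rw [← D.j.commutes, ← D.j.commutes, h])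
  haveI : Module.Free A D.B := Module.free_of_flat_of_isLocalRing
  let KB := FractionRing D.B
  letI : Algebra K KB := (IsFractionRing.lift (K := K) (g := algebraMap A KB) (by
    rw [IsScalarTower.algebraMap_eq A D.B KB]
    exact (IsFractionRing.injective D.B KB).comp (FaithfulSMul.algebraMap_injective A D.B))).toAlgebra
  haveI : IsScalarTower A K KB := IsScalarTower.of_algebraMap_eq fun a => (IsFractionRing.lift_algebraMap _ a).symm
  obtain ⟨hfinB, hrankB⟩ := finrank_fractionRing_eq (A := A) D.B K KB
  have hφinj : Function.Injective φ := fun a b h => D.inj (by rw [← hφj, ← hφj, h])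
  have hφK : Function.Injective ((algebraMap DE.B K').comp (φ : D.B →+* DE.B)) :=
    (IsFractionRing.injective DE.B K').comp hφinj
  let Φ₀ : KB →+* K' := IsFractionRing.lift (K := KB) hφK
  have hΦ₀ : ∀ b, Φ₀ (algebraMap D.B KB b) = algebraMap DE.B K' (φ b) := fun b => IsFractionRing.lift_algebraMap hφK b
  have hΦK : Φ₀.comp (algebraMap K KB) = algebraMap K K' := IsFractionRing.ringHom_ext fun a => by
    rw [RingHom.comp_apply, ← IsScalarTower.algebraMap_apply A K KB, IsScalarTower.algebraMap_apply A D.B KB,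
      hΦ₀, φ.commutes, ← IsScalarTower.algebraMap_apply A DE.B K', ← IsScalarTower.algebraMap_apply A K K']
  let Φ : KB →ₐ[K] K' := { Φ₀ with commutes' := fun c => RingHom.congr_fun hΦK c }
  have hfix : ∀ b, algebraMap DE.B K' (φ b) ∈ L' := by
    intro b
    rw [← IsGalois.fixedField_fixingSubgroup L', IntermediateField.mem_fixedField_iff]
    intro g hg
    obtain ⟨σ, rfl⟩ := hΨ.2 g
    have hσ : σ ∈ H := hg
    have h1 : (f (σ : E →ₐ[k] E)).comp φ = φ := D.hom_ext DE _ _ fun b => by
      rw [AlgHom.comp_apply, hf, hφ]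
      obtain ⟨y, hy, hyeq⟩ := (D.res (residue D.B b)).2
      have h2 : IntermediateField.inclusion (IntermediateField.lift_le E₀) (D.res (residue D.B b)) = y :=
        Subtype.ext hyeq.symm
      rw [h2]
      exact (IntermediateField.mem_fixedField_iff _ _).mp hy σ hσ
    show IsFractionRing.fieldEquivOfAlgEquiv K K' K' (gA σ) _ = _
    rw [IsFractionRing.fieldEquivOfAlgEquiv_algebraMap]
    exact congrArg _ (DFunLike.congr_fun h1 b)
  have hle : Φ.fieldRange ≤ L' := by
    rintro _ ⟨z, rfl⟩
    obtain ⟨a, c, -, rfl⟩ := IsFractionRing.div_surjective (A := D.B) z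
    show Φ₀ _ ∈ L'
    rw [map_div₀, hΦ₀, hΦ₀]
    exact div_mem (hfix a) (hfix c)
  have hrange : Φ.fieldRange = L' := by
    refine IntermediateField.eq_of_le_of_finrank_eq hle ?_
    have h1 : Module.finrank K Φ.fieldRange = Module.finrank k E₀ := by
      rw [show Module.finrank K Φ.fieldRange = Module.finrank K KB from
        (AlgEquiv.ofInjectiveField Φ).toLinearEquiv.finrank_eq.symm, hrankB, D.rank]
      exact (IntermediateField.liftAlgEquiv E₀).toLinearEquiv.finrank_eq.symm
    have h2 : Module.finrank E₀ E = Module.finrank L' K' := by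
      rw [IntermediateField.finrank_fixedField_eq_card, ← IsGalois.card_fixingSubgroup_eq_finrank L']
      exact Nat.card_congr ((Equiv.ofBijective Ψ hΨ).subtypeEquiv fun σ => Iff.rfl)
    have h3 := Module.finrank_mul_finrank k E₀ E
    have h4 := Module.finrank_mul_finrank K L' K'
    have h5 : Module.finrank k E = Module.finrank K K' := by rw [← hcard, IsGalois.card_aut_eq_finrank]
    have h6 : 0 < Module.finrank L' K' := Module.finrank_pos
    rw [h1]
    apply Nat.eq_of_mul_eq_mul_right h6
    rw [h4, ← h2, h3, h5]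
  refine ⟨F, D, fun x => ?_⟩
  rw [← hL, IntermediateField.mem_map, ← hrange]
  constructor
  · rintro ⟨_, ⟨z, rfl⟩, hz⟩
    obtain ⟨a, c, hc, rfl⟩ := IsFractionRing.div_surjective (A := D.B) z
    have hc0 : D.j c ≠ 0 := fun h => nonZeroDivisors.ne_zero hc (D.inj (by rw [h, map_zero]))
    change ι₀ (Φ₀ _) = _ at hz
    rw [map_div₀, map_div₀, hΦ₀, hΦ₀, hι₀, hι₀, hφj, hφj,
      div_eq_iff (by rw [ne_eq, IsFractionRing.to_map_eq_zero_iff]; exact hc0), ← map_mul] at hz
    obtain ⟨d, rfl⟩ := D.dvd c a ⟨x, by rw [IsFractionRing.injective S FS hz, mul_comm]⟩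
    refine ⟨d, mul_left_cancel₀ hc0 ?_⟩
    show D.j c * D.j d = _
    rw [← map_mul, IsFractionRing.injective S FS hz, mul_comm]
  · rintro ⟨b, rfl⟩
    refine ⟨_, ⟨algebraMap D.B KB b, rfl⟩, ?_⟩
    show ι₀ (Φ₀ _) = _
    rw [hΦ₀, hι₀, hφj]
    rfl

end SHGalLib
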