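import Mathlib
import Groth.Agent.SHGalLib.Cover

/-!
# Invariants of residual automorphisms
-/

set_option autoImplicit false
universe u

open IsLocalRing

namespace SHGalLib

variable {A S : Type u} [CommRing A] [HenselianLocalRing A] [CommRing S] [HenselianLocalRing S]
  [Algebra A S] [IsLocalHom (algebraMap A S)]
  {E : IntermediateField (ResidueField A) (ResidueField S)}

/-- The action of a residual automorphism. -/
noncomputable def FEL.act (D : FEL A S E) (σ : E ≃ₐ[ResidueField A] E) : D.B →ₐ[A] D.B :=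
  Classical.choose (D.exists_hom D (σ : E →ₐ[ResidueField A] E))

theorem FEL.res_act (D : FEL A S E) (σ : E ≃ₐ[ResidueField A] E) (b : D.B) :
    D.res (residue D.B (D.act σ b)) = σ (D.res (residue D.B b)) :=
  Classical.choose_spec (D.exists_hom D (σ : E →ₐ[ResidueField A] E)) b

theorem FEL.act_act (D : FEL A S E) (σ τ : E ≃ₐ[ResidueField A] E) (b : D.B) :
    D.act σ (D.act τ b) = D.act (σ * τ) b := by
  refine DFunLike.congr_fun (f := (D.act σ).comp (D.act τ)) (D.hom_ext D _ _ fun c => ?_) b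
  rw [AlgHom.comp_apply, D.res_act, D.res_act, D.res_act]
  rfl

theorem FEL.act_one (D : FEL A S E) (b : D.B) : D.act 1 b = b := by
  refine DFunLike.congr_fun (g := AlgHom.id A D.B) (D.hom_ext D _ _ fun c => ?_) b
  rw [D.res_act]
  rfl

variable [IsNoetherianRing A] [FiniteDimensional (ResidueField A) E]

/-- The invariants of a subgroup are the lift of its fixed field, and traces have an invariant section. -/
theorem FEL.exists_invariant_lift (D : FEL A S E) (H : Subgroup (E ≃ₐ[ResidueField A] E))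
    {F : IntermediateField (ResidueField A) (ResidueField S)}
    (hF : F = IntermediateField.lift (IntermediateField.fixedField H)) (D₀ : FEL A S F) :
    ∃ φ : D₀.B →ₐ[A] D.B, (∀ d, D.j (φ d) = D₀.j d) ∧ (∀ d, ∀ σ ∈ H, D.act σ (φ d) = φ d) ∧
      (∀ y, (∀ σ ∈ H, D.act σ y = y) → y ∈ φ.range) ∧
      ∀ {N : Type u} [CommRing N] (π : D.B →+* N) (b : D.B), (∀ σ ∈ H, π (D.act σ b) = π b) →
        ∃ d, π (φ d) = π b := by
  classical
  let k := ResidueField A
  subst hF
  obtain ⟨φ, hφ⟩ := D₀.exists_hom D (IntermediateField.inclusion (IntermediateField.lift_le _))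
  have hφfix : ∀ d, ∀ σ ∈ H, D.act σ (φ d) = φ d := fun d σ hσ => by
    refine DFunLike.congr_fun (f := (D.act σ).comp φ) (D₀.hom_ext D _ _ fun c => ?_) d
    rw [AlgHom.comp_apply, D.res_act, hφ]
    obtain ⟨y, hy, hyeq⟩ := (D₀.res (residue D₀.B c)).2
    rw [show IntermediateField.inclusion (IntermediateField.lift_le _) (D₀.res (residue D₀.B c)) = y from
      Subtype.ext hyeq.symm]
    exact (IntermediateField.mem_fixedField_iff _ _).mp hy σ hσ
  let tr : D.B →ₗ[A] D.B := ∑ σ : H, (D.act σ.1).toLinearMap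
  have htr : ∀ b, tr b = ∑ σ : H, D.act σ.1 b := fun b => LinearMap.sum_apply _ _ _
  have htrinv : ∀ b, ∀ σ ∈ H, D.act σ (tr b) = tr b := fun b σ hσ => by
    rw [htr, map_sum]
    refine Fintype.sum_equiv (Equiv.mulLeft (⟨σ, hσ⟩ : H)) _ _ fun τ => ?_
    rw [D.act_act]
    rfl
  -- a section of the trace
  obtain ⟨θ, hθ⟩ : ∃ θ, tr θ = 1 := by
    obtain ⟨e, he⟩ : ∃ e : E, ∑ σ : H, σ.1 e ≠ 0 := by
      by_contra! h
      have hli : LinearIndependent E (fun σ : H => fun x : E => σ.1 x) :=
        (linearIndependent_monoidHom E E).comp (fun σ : H => ((σ.1 : E ≃ₐ[k] E) : E →* E)) fun a b hab =>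
          Subtype.ext (AlgEquiv.ext fun x => DFunLike.congr_fun hab x)
      exact one_ne_zero (Fintype.linearIndependent_iff.mp hli (fun _ => 1) (funext fun x => by simpa using h x) 1)
    obtain ⟨r, rfl⟩ := D.res.surjective e
    obtain ⟨θ₀, rfl⟩ := residue_surjective r
    have hu : IsUnit (tr θ₀) := by
      rw [← residue_ne_zero_iff_isUnit]
      intro h0
      refine he ?_
      rw [← map_zero D.res, ← h0, htr, map_sum, map_sum]
      exact Finset.sum_congr rfl fun σ _ => (D.res_act _ _).symm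
    refine ⟨θ₀ * ↑hu.unit⁻¹, ?_⟩
    have hinv : ∀ σ ∈ H, D.act σ (↑hu.unit⁻¹ : D.B) = ↑hu.unit⁻¹ := fun σ hσ => by
      refine hu.mul_left_cancel ?_
      have h1 := congrArg (D.act σ) hu.mul_val_inv
      rw [map_mul, map_one, htrinv θ₀ σ hσ] at h1
      exact h1.trans hu.mul_val_inv.symm
    rw [htr]
    simp only [map_mul]
    rw [show ∑ σ : H, D.act σ.1 θ₀ * D.act σ.1 ↑hu.unit⁻¹ = (∑ σ : H, D.act σ.1 θ₀) * ↑hu.unit⁻¹ by
      rw [Finset.sum_mul]; exact Finset.sum_congr rfl fun σ _ => by rw [hinv σ.1 σ.2], ← htr, IsUnit.mul_val_inv]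
  have hsec : ∀ y, (∀ σ ∈ H, D.act σ y = y) → tr (θ * y) = y := fun y hy => by
    rw [htr]
    simp only [map_mul]
    rw [show ∑ σ : H, D.act σ.1 θ * D.act σ.1 y = (∑ σ : H, D.act σ.1 θ) * y by
      rw [Finset.sum_mul]; exact Finset.sum_congr rfl fun σ _ => by rw [hy σ.1 σ.2], ← htr, hθ, one_mul]
  haveI : IsLocalHom (algebraMap A D.B) := ⟨fun a ha =>
    IsUnit.of_map (algebraMap A S) a (by simpa using ha.map D.j)⟩
  let inv : Submodule A D.B :=
    { carrier := {y | ∀ σ ∈ H, D.act σ y = y}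
      add_mem' := fun ha hb σ hσ => by rw [map_add, ha σ hσ, hb σ hσ]
      zero_mem' := fun σ _ => map_zero _
      smul_mem' := fun a y hy σ hσ => by rw [map_smul, hy σ hσ] }
  have hinvle : inv ≤ LinearMap.range φ.toLinearMap := by
    haveI : IsNoetherian A D.B := isNoetherian_of_isNoetherianRing_of_finite A D.B
    refine Submodule.le_of_le_smul_of_le_jacobson_bot (IsNoetherian.noetherian _)
      (IsLocalRing.maximalIdeal_le_jacobson _) fun y hy => ?_
    have hmem : (D.res (residue D.B y) : ResidueField S) ∈ IntermediateField.lift (IntermediateField.fixedField H) := by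
      refine ⟨D.res (residue D.B y), (IntermediateField.mem_fixedField_iff _ _).mpr fun σ hσ => ?_, rfl⟩
      rw [← D.res_act, hy σ hσ]
    obtain ⟨d, hd⟩ := residue_surjective (D₀.res.symm ⟨_, hmem⟩)
    have hdy : D.res (residue D.B (φ d)) = D.res (residue D.B y) := by
      rw [hφ]
      refine Subtype.ext ?_
      show ((D₀.res (residue D₀.B d)) : ResidueField S) = _
      rw [hd, RingEquiv.apply_symm_apply]
    have hker : y - φ d ∈ maximalIdeal A • (⊤ : Submodule A D.B) := by
      rw [Ideal.smul_top_eq_map, Submodule.restrictScalars_mem, Algebra.FormallyUnramified.map_maximalIdeal]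
      rw [← residue_eq_zero_iff, map_sub, D.res.injective hdy, sub_self]
    have htry : y - φ d = tr (θ * (y - φ d)) := (hsec _ fun σ hσ => by
      rw [map_sub, hy σ hσ, hφfix d σ hσ]).symm
    have hrange : ∀ w ∈ maximalIdeal A • (⊤ : Submodule A D.B), tr (θ * w) ∈ maximalIdeal A • inv := by
      intro w hw
      induction hw using Submodule.smul_induction_on' with
      | smul a ha b _ =>
        rw [mul_smul_comm, map_smul]
        exact Submodule.smul_mem_smul ha (htrinv _)
      | add a _ b _ h1 h2 => rw [mul_add, map_add]; exact add_mem h1 h2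
    exact Submodule.mem_sup.mpr ⟨φ d, ⟨d, rfl⟩, y - φ d, htry ▸ hrange _ hker, add_sub_cancel _ _⟩
  refine ⟨φ, fun d => D₀.comp_eq D φ (fun b => by rw [hφ]; rfl) d, hφfix, fun y hy => hinvle hy,
    fun {N} _ π b hb => ?_⟩
  obtain ⟨d, hd⟩ := hinvle (show tr (θ * b) ∈ inv from htrinv _)
  refine ⟨d, ?_⟩
  rw [show φ d = tr (θ * b) from hd, htr, map_sum]
  simp only [map_mul]
  rw [show ∑ σ : H, π (D.act σ.1 θ) * π (D.act σ.1 b) = (∑ σ : H, π (D.act σ.1 θ)) * π b by
    rw [Finset.sum_mul]; exact Finset.sum_congr rfl fun σ _ => by rw [hb σ.1 σ.2], ← map_sum, ← htr, hθ, map_one, one_mul]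

end SHGalLib
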