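import Mathlib
import Groth.Agent.SHGalLib.Invariant
import Groth.Agent.S0540

/-!
# Finitely generated subfields of the function field of a component of a strict henselization
-/

set_option autoImplicit false
universe u

open IsLocalRing

namespace SHGalLib

/-- A finite free algebra has at most as many homomorphisms to a domain as its rank. -/
theorem card_algHom_le {A B Ω : Type u} [CommRing A] [StrongRankCondition A] [CommRing B] [Algebra A B]
    [Module.Free A B] [Module.Finite A B] [Field Ω] [Algebra A Ω] {ι : Type u} [Fintype ι] (f : ι → (B →ₐ[A] Ω))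
    (hf : Function.Injective f) : Fintype.card ι ≤ Module.finrank A B := by
  classical
  let bas := Module.finBasis A B
  have hli : LinearIndependent Ω (fun i j => f i (bas j)) := by
    rw [Fintype.linearIndependent_iff]
    intro c hc
    have h1 : LinearIndependent Ω (fun i => fun x : B => f i x) :=
      (linearIndependent_monoidHom B Ω).comp (fun i => ((f i : B →+* Ω) : B →* Ω)) fun a b h =>
        hf (AlgHom.ext fun x => DFunLike.congr_fun h x)
    refine Fintype.linearIndependent_iff.mp h1 c ?_
    let T : B →ₗ[A] Ω := ∑ i, c i • (f i).toLinearMap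
    have hT : T = 0 := bas.ext fun j => by
      simp only [T, LinearMap.sum_apply, LinearMap.smul_apply, LinearMap.zero_apply]
      simpa [Finset.sum_apply] using congrFun hc j
    funext x
    simpa [T, Finset.sum_apply] using LinearMap.congr_fun hT x
  simpa using hli.fintype_card_le_finrank

variable {A S : Type u} [CommRing A] [HenselianLocalRing A] [IsNoetherianRing A] [CommRing S] [IsLocalRing S]
  [Algebra A S] [IsLocalHom (algebraMap A S)] [Hensel.IsStrictHenselization A S]

/-- The subfield of `Frac (S ⧸ Q)` generated by `A` and finitely many elements meets `S ⧸ Q` in the image of a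
finite étale algebra, and is its field of fractions. -/
theorem exists_fel_preimage (Q : Ideal S) [Q.IsPrime] (t : Finset (FractionRing (S ⧸ Q))) :
    ∃ (F : IntermediateField (ResidueField A) (ResidueField S)) (D : FEL A S F),
      (∀ x : S ⧸ Q, algebraMap (S ⧸ Q) (FractionRing (S ⧸ Q)) x ∈
          Subfield.closure (Set.range (algebraMap A (FractionRing (S ⧸ Q))) ∪ (t : Set (FractionRing (S ⧸ Q)))) ↔
        x ∈ ((Ideal.Quotient.mkₐ A Q).comp D.j).range) ∧
      ∀ l ∈ Subfield.closure (Set.range (algebraMap A (FractionRing (S ⧸ Q))) ∪ (t : Set (FractionRing (S ⧸ Q)))),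
        ∃ a b : S ⧸ Q, a ∈ ((Ideal.Quotient.mkₐ A Q).comp D.j).range ∧ b ∈ ((Ideal.Quotient.mkₐ A Q).comp D.j).range ∧
          b ≠ 0 ∧ l * algebraMap (S ⧸ Q) (FractionRing (S ⧸ Q)) b = algebraMap (S ⧸ Q) (FractionRing (S ⧸ Q)) a := by
  classical
  haveI : HenselianLocalRing S := Hensel.IsStrictHenselization.henselian A
  haveI : Module.FaithfullyFlat A S := Groth.Agent.S0539.result A S
  haveI : IsNoetherianRing S := (Groth.Agent.S0540.result A S).1 inferInstance
  let k := ResidueField A
  let N := S ⧸ Q
  let FS := FractionRing N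
  let L : Subfield FS := Subfield.closure (Set.range (algebraMap A FS) ∪ (t : Set FS))
  choose num den hden hfrac using fun z : FS => IsFractionRing.div_surjective (A := N) z
  choose lift hlift using fun x : N => Ideal.Quotient.mk_surjective x
  obtain ⟨G, hG⟩ := (IsNoetherian.noetherian Q : (Q : Submodule S S).FG)
  obtain ⟨E, hfd, hgal, DE, hDE⟩ :=
    exists_galois_FEL (A := A) (S := S) (t.image (lift ∘ num) ∪ t.image (lift ∘ den) ∪ G)
  haveI := hfd
  haveI := hgal
  haveI : Module.Free A DE.B := Module.free_of_flat_of_isLocalRing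
  let π : DE.B →ₐ[A] N := (Ideal.Quotient.mkₐ A Q).comp DE.j
  let πF : DE.B →ₐ[A] FS := (IsScalarTower.toAlgHom A N FS).comp π
  have hπFinj : ∀ x y : N, algebraMap N FS x = algebraMap N FS y → x = y := fun x y h =>
    IsFractionRing.injective N FS h
  -- elements of `N` in the fraction field of the image lie in the image
  have hsat : ∀ (x : N) (b c : DE.B), π c ≠ 0 → x * π c = π b → ∃ r, π r = x := by
    intro x b c hc hx
    obtain ⟨x, rfl⟩ := Ideal.Quotient.mk_surjective x
    letI : Algebra DE.B S := (DE.j : DE.B →+* S).toAlgebra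
    haveI : IsScalarTower A DE.B S := IsScalarTower.of_algebraMap_eq fun a => (DE.j.commutes a).symm
    haveI : Module.Flat DE.B S := HenselLib.flat_of_etale (R := A)
    haveI : IsLocalHom (algebraMap DE.B S) := DE.loc
    haveI : Module.FaithfullyFlat DE.B S := Module.FaithfullyFlat.of_flat_of_isLocalHom
    let P : Ideal DE.B := Q.comap (algebraMap DE.B S)
    have hQ : Q ≤ P.map (algebraMap DE.B S) := by
      conv_lhs => rw [← hG]
      refine Submodule.span_le.mpr fun g hg => ?_
      obtain ⟨y, hy⟩ := hDE g (Finset.mem_union_right _ hg)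
      have hyg : algebraMap DE.B S y = g := hy
      rw [← hyg]
      refine Ideal.mem_map_of_mem _ (show algebraMap DE.B S y ∈ Q from ?_)
      rw [hyg, ← hG]
      exact Submodule.subset_span hg
    have hmem : algebraMap DE.B S b ∈ (Ideal.span {c} ⊔ P).map (algebraMap DE.B S) := by
      rw [Ideal.map_sup, Ideal.map_span, Set.image_singleton]
      have h1 : x * DE.j c - DE.j b ∈ Q := Ideal.Quotient.eq.mp hx
      refine Submodule.mem_sup.mpr ⟨x * DE.j c, Ideal.mul_mem_left _ x (Ideal.mem_span_singleton_self _),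
        -(x * DE.j c - DE.j b), neg_mem (hQ h1), ?_⟩
      show _ = DE.j b
      ring
    rw [← Ideal.mem_comap, Ideal.comap_map_eq_self_of_faithfullyFlat] at hmem
    obtain ⟨w, hw, p, hp, hwp⟩ := Submodule.mem_sup.mp hmem
    obtain ⟨r, rfl⟩ := Ideal.mem_span_singleton'.mp hw
    refine ⟨r, mul_right_cancel₀ hc ?_⟩
    rw [hx, ← hwp, map_add, map_mul]
    have hp0 : π p = 0 := Ideal.Quotient.eq_zero_iff_mem.mpr hp
    rw [hp0, add_zero]
  -- every element of `L` is a fraction of the image
  have hLfrac : ∀ l ∈ L, ∃ b c : DE.B, π c ≠ 0 ∧ l * πF c = πF b := by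
    let P : Ideal DE.B := RingHom.ker (π : DE.B →+* N)
    haveI : P.IsPrime := RingHom.ker_isPrime _
    let πbar : DE.B ⧸ P →+* FS := (algebraMap N FS).comp (RingHom.kerLift (π : DE.B →+* N))
    have hinj : Function.Injective πbar :=
      (IsFractionRing.injective N FS).comp (RingHom.kerLift_injective (π : DE.B →+* N))
    let lf : FractionRing (DE.B ⧸ P) →+* FS := IsFractionRing.lift (K := FractionRing (DE.B ⧸ P)) hinj
    have hlf : ∀ b, lf (algebraMap (DE.B ⧸ P) _ (Ideal.Quotient.mk P b)) = πF b := fun b =>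
      IsFractionRing.lift_algebraMap hinj _
    have hle : L ≤ lf.fieldRange := Subfield.closure_le.mpr (Set.union_subset
      (by rintro _ ⟨a, rfl⟩; exact ⟨_, (hlf (algebraMap A DE.B a)).trans (πF.commutes a)⟩)
      (fun z hz => by
        obtain ⟨b, hb⟩ := hDE (lift (num z)) (Finset.mem_union_left _ (Finset.mem_union_left _
          (Finset.mem_image_of_mem (lift ∘ num) hz)))
        obtain ⟨c, hc⟩ := hDE (lift (den z)) (Finset.mem_union_left _ (Finset.mem_union_right _
          (Finset.mem_image_of_mem (lift ∘ den) hz)))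
        refine ⟨algebraMap _ _ (Ideal.Quotient.mk P b) / algebraMap _ _ (Ideal.Quotient.mk P c), ?_⟩
        have hb' : π b = num z := (congrArg (Ideal.Quotient.mk Q) hb).trans (hlift _)
        have hc' : π c = den z := (congrArg (Ideal.Quotient.mk Q) hc).trans (hlift _)
        rw [map_div₀, hlf, hlf]
        show algebraMap N FS (π b) / algebraMap N FS (π c) = z
        rw [hb', hc']
        exact hfrac z))
    intro l hl
    obtain ⟨w, rfl⟩ := hle hl
    obtain ⟨b, c, hc, rfl⟩ := IsFractionRing.div_surjective (A := DE.B ⧸ P) w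
    obtain ⟨b, rfl⟩ := Ideal.Quotient.mk_surjective b
    obtain ⟨c, rfl⟩ := Ideal.Quotient.mk_surjective c
    have hc0 : π c ≠ 0 := fun h => nonZeroDivisors.ne_zero hc (Ideal.Quotient.eq_zero_iff_mem.mpr h)
    refine ⟨b, c, hc0, ?_⟩
    rw [map_div₀, hlf, hlf, div_mul_cancel₀]
    exact fun h => hc0 (hπFinj _ _ (h.trans (map_zero _).symm))
  -- the group
  let Hm : Submonoid (E ≃ₐ[k] E) :=
    { carrier := {σ | ∀ b, πF b ∈ L → πF (DE.act σ b) = πF b}
      one_mem' := fun b _ => by rw [DE.act_one]
      mul_mem' := fun {σ τ} hσ hτ b hb => by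
        rw [← DE.act_act, hσ _ (by rw [hτ b hb]; exact hb), hτ b hb] }
  let H : Subgroup (E ≃ₐ[k] E) :=
    { Hm with
      inv_mem' := fun {σ} hσ => by
        have h1 : σ⁻¹ = σ ^ (orderOf σ - 1) := by
          refine inv_eq_of_mul_eq_one_right ?_
          rw [← pow_succ', Nat.sub_add_cancel (orderOf_pos σ), pow_orderOf_eq_one]
        rw [h1]
        exact Hm.pow_mem hσ _ }
  let F : IntermediateField k (ResidueField S) := IntermediateField.lift (IntermediateField.fixedField H)
  haveI : FiniteDimensional k F :=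
    (IntermediateField.liftAlgEquiv (IntermediateField.fixedField H)).toLinearEquiv.finiteDimensional
  haveI : IsSepClosure k (ResidueField S) := Hensel.IsStrictHenselization.isSepClosure
  haveI : Algebra.IsSeparable k F := Algebra.isSeparable_tower_bot_of_isSeparable k F (ResidueField S)
  obtain ⟨D₀⟩ := nonempty_FEL (A := A) (S := S) F
  obtain ⟨φ, hφj, hφfix, -, hφlift⟩ := DE.exists_invariant_lift H rfl D₀
  have hrange : ∀ d, π (φ d) = ((Ideal.Quotient.mkₐ A Q).comp D₀.j) d := fun d => congrArg (Ideal.Quotient.mk Q) (hφj d)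
  -- invariant elements have image in `L`
  have hinvL : ∀ y : DE.B, (∀ σ ∈ H, DE.act σ y = y) → πF y ∈ L := by
    intro y hy
    by_contra hyL
    letI : Algebra A L := ((algebraMap A FS).codRestrict L fun a => Subfield.subset_closure (Or.inl ⟨a, rfl⟩)).toAlgebra
    haveI : IsScalarTower A L FS := IsScalarTower.of_algebraMap_eq fun a => rfl
    let Φ : TensorProduct A L DE.B →ₐ[L] FS :=
      Algebra.TensorProduct.lift (Algebra.ofId L FS) πF fun _ _ => .all _ _
    haveI : Algebra.FormallyUnramified L (TensorProduct A L DE.B) := inferInstance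
    haveI : Module.Finite L Φ.range := Module.Finite.of_surjective Φ.rangeRestrict.toLinearMap Φ.rangeRestrict_surjective
    haveI : Algebra.FormallyUnramified L Φ.range :=
      Algebra.FormallyUnramified.of_surjective Φ.rangeRestrict Φ.rangeRestrict_surjective
    let M : IntermediateField L FS := Φ.range.toIntermediateField fun x hx =>
      Subalgebra.inv_mem_of_algebraic Φ.range (x := ⟨x, hx⟩)
        ((IsIntegral.of_finite L (⟨x, hx⟩ : Φ.range)).map Φ.range.val).isAlgebraic
    haveI : Module.Finite L M := ‹Module.Finite L Φ.range›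
    haveI : Algebra.FormallyUnramified L M := ‹Algebra.FormallyUnramified L Φ.range›
    haveI : Algebra.IsSeparable L M := Algebra.FormallyUnramified.isSeparable L M
    have hM : ∀ b, πF b ∈ M := fun b => ⟨1 ⊗ₜ b, by simp [Φ]⟩
    let z : M := ⟨πF y, hM y⟩
    let Ω := AlgebraicClosure FS
    let ι : FS →+* Ω := algebraMap FS Ω
    -- another embedding moves `z`
    obtain ⟨γ, hγ⟩ : ∃ γ : M →ₐ[L] Ω, γ z ≠ ι (πF y) := by
      by_contra! h
      have hint : IsIntegral L z := IsIntegral.of_finite L z
      have hsep : (minpoly L z).Separable := Algebra.IsSeparable.isSeparable L z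
      have hroots : ∀ w ∈ (minpoly L z).rootSet Ω, w = ι (πF y) := fun w hw => by
        have hw' : w ∈ Set.range fun γ : M →ₐ[L] Ω => γ z := by
          rw [Algebra.IsAlgebraic.range_eval_eq_rootSet_minpoly]
          exact hw
        obtain ⟨γ, rfl⟩ := hw'
        exact h γ
      have hcard : Fintype.card ((minpoly L z).rootSet Ω) = (minpoly L z).natDegree :=
        Polynomial.card_rootSet_eq_natDegree hsep (IsAlgClosed.splits _)
      have hle : Fintype.card ((minpoly L z).rootSet Ω) ≤ 1 :=
        Fintype.card_le_one_iff.mpr fun a b => Subtype.ext ((hroots _ a.2).trans (hroots _ b.2).symm)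
      obtain ⟨c, hc⟩ := minpoly.natDegree_eq_one_iff.mp
        (le_antisymm (hcard ▸ hle) (minpoly.natDegree_pos hint))
      exact hyL (by
        have := congrArg Subtype.val hc
        rw [show πF y = (z : FS) from rfl, ← this]
        exact c.2)
    let γB : DE.B →ₐ[A] Ω :=
      { toRingHom := γ.toRingHom.comp ((πF : DE.B →+* FS).codRestrict M hM)
        commutes' := fun a => by
          show γ ⟨πF (algebraMap A DE.B a), _⟩ = _
          have h1 : (⟨πF (algebraMap A DE.B a), hM _⟩ : M) = algebraMap L M (algebraMap A L a) :=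
            Subtype.ext (πF.commutes a)
          rw [h1, γ.commutes, ← IsScalarTower.algebraMap_apply A L Ω] }
    let fam : Option (E ≃ₐ[k] E) → (DE.B →ₐ[A] Ω) := fun o =>
      o.elim γB fun σ => (IsScalarTower.toAlgHom A FS Ω).comp (πF.comp (DE.act σ))
    have hdist : ∀ σ τ : E ≃ₐ[k] E, fam (some σ) = fam (some τ) → σ = τ := by
      intro σ τ h
      refine AlgEquiv.ext fun x => ?_
      obtain ⟨r, rfl⟩ := DE.res.surjective x
      obtain ⟨b, rfl⟩ := residue_surjective r
      have h1 : π (DE.act σ b) = π (DE.act τ b) :=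
        hπFinj _ _ ((algebraMap FS Ω).injective (DFunLike.congr_fun h b))
      have h2 : residue S (DE.j (DE.act σ b)) = residue S (DE.j (DE.act τ b)) := by
        rw [← sub_eq_zero, ← map_sub, residue_eq_zero_iff]
        exact le_maximalIdeal (Ideal.IsPrime.ne_top ‹Q.IsPrime›) (Ideal.Quotient.eq.mp h1)
      refine Subtype.ext ?_
      rw [← DE.res_act, ← DE.res_act, DE.hres, DE.hres, h2]
    have hninj : ¬ Function.Injective fam := fun hinj => by
      have h1 := card_algHom_le fam hinj
      rw [Fintype.card_option, DE.rank, ← Nat.card_eq_fintype_card, IsGalois.card_aut_eq_finrank] at h1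
      exact absurd h1 (Nat.not_succ_le_self _)
    have hex : ∃ σ, fam none = fam (some σ) := by
      by_contra! hne
      refine hninj fun a b hab => ?_
      rcases a with _ | σ <;> rcases b with _ | τ
      · rfl
      · exact absurd hab (hne τ)
      · exact absurd hab.symm (hne σ)
      · exact congrArg some (hdist σ τ hab)
    obtain ⟨σ, hσ⟩ := hex
    have hσH : σ ∈ H := fun b hb => by
      have h1 : γB b = ι (πF (DE.act σ b)) := DFunLike.congr_fun hσ b
      have h2 : γB b = ι (πF b) := by
        show γ ⟨πF b, _⟩ = _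
        rw [show (⟨πF b, hM b⟩ : M) = algebraMap L M ⟨πF b, hb⟩ from Subtype.ext rfl, γ.commutes]
        rfl
      exact ι.injective (h1.symm.trans h2)
    exact hγ (by
      show γB y = _
      rw [show γB y = ι (πF (DE.act σ y)) from DFunLike.congr_fun hσ y, hy σ hσH])
  have hmem : ∀ x : N, algebraMap N FS x ∈ L ↔ x ∈ ((Ideal.Quotient.mkₐ A Q).comp D₀.j).range := by
    refine fun x => ⟨fun hx => ?_, ?_⟩
    · obtain ⟨b, c, hc, hbc⟩ := hLfrac _ hx
      obtain ⟨r, rfl⟩ := hsat x b c hc (hπFinj _ _ (by rw [map_mul]; exact hbc))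
      obtain ⟨d, hd⟩ := hφlift (π : DE.B →+* N) r fun σ hσ => hπFinj _ _ (hσ r hx)
      exact ⟨d, (hrange d).symm.trans hd⟩
    · rintro ⟨d, rfl⟩
      show algebraMap N FS (((Ideal.Quotient.mkₐ A Q).comp D₀.j) d) ∈ L
      rw [← hrange]
      exact hinvL _ fun σ hσ => hφfix d σ hσ
  refine ⟨F, D₀, hmem, fun l hl => ?_⟩
  obtain ⟨b, c, hc, hbc⟩ := hLfrac l hl
  -- `c` divides a non-zero constant
  let p : Ideal A := RingHom.ker (algebraMap A N)
  haveI : p.IsPrime := RingHom.ker_isPrime _
  letI : Algebra (A ⧸ p) N := (RingHom.kerLift (algebraMap A N)).toAlgebra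
  haveI : IsScalarTower A (A ⧸ p) N := IsScalarTower.of_algebraMap_eq fun a => rfl
  haveI : Algebra.IsIntegral A DE.B := inferInstance
  have hint : IsIntegral (A ⧸ p) (π c) := ((Algebra.IsIntegral.isIntegral (R := A) c).map π).tower_top
  obtain ⟨a, ha, w, hw⟩ := IsAlgebraic.exists_nonzero_dvd hint.isAlgebraic (mem_nonZeroDivisors_of_ne_zero hc)
  obtain ⟨a, rfl⟩ := Ideal.Quotient.mk_surjective a
  have haN : algebraMap A N a ≠ 0 := fun h => ha (Ideal.Quotient.eq_zero_iff_mem.mpr h)
  change algebraMap A N a = π c * w at hw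
  have hmul : l * algebraMap N FS (algebraMap A N a) = algebraMap N FS (π b * w) := by
    rw [hw, map_mul, map_mul, ← mul_assoc]
    exact congrArg (· * algebraMap N FS w) hbc
  refine ⟨π b * w, algebraMap A N a, (hmem _).mp ?_, Subalgebra.algebraMap_mem _ a, haN, hmul⟩
  rw [← hmul]
  exact mul_mem hl (Subfield.subset_closure (Or.inl ⟨a, IsScalarTower.algebraMap_apply A N FS a⟩))

end SHGalLib
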